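import Cfsg.Prelude.Def_Transfer
import Cfsg.Agent.Lib.BenderConsumers23.Basic
import Cfsg.Agent.Lib.ZStar.UniqueCase
import Cfsg.Agent.Lib.OddOrder.FeitThompson

/-!
# Groups in which abelian subgroups of equal order are conjugate: the Sylow 2-subgroups

Owner: helper77.
-/

set_option autoImplicit false

namespace Cfsg.Agent.Lib.SameOrderConj77

open Subgroup Cfsg.Agent.Lib.Involutions.Basic

universe u

variable {G : Type u} [Group G]

/-- Any two abelian subgroups of equal order are conjugate. -/
def AbConj (G : Type u) [Group G] : Prop :=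
  ∀ A B : Subgroup G, IsMulCommutative ↥A → IsMulCommutative ↥B → Nat.card ↥A = Nat.card ↥B →
    ∃ g : G, B = A.map (MulAut.conj g).toMonoidHom

theorem even_card_of_simple [Finite G] [IsSimpleGroup G] (hna : ¬ IsMulCommutative G) :
    2 ∣ Nat.card G := by
  by_contra h
  haveI : Group.IsSolvable G :=
    OddOrder.FeitThompson.isSolvable_of_odd_card (Nat.not_even_iff_odd.1 fun he => h he.two_dvd)
  exact hna ⟨⟨IsSimpleGroup.comm_iff_isSolvable.2 inferInstance⟩⟩

/-- A finite non-abelian simple group has a Klein four-group. -/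
theorem twoRank_of_simple [Finite G] [IsSimpleGroup G] (hna : ¬ IsMulCommutative G) :
    BenderSuzuki.TwoRank G := by
  by_contra h
  haveI : Fact (Nat.Prime 2) := ⟨Nat.prime_two⟩
  obtain ⟨t, ht⟩ := exists_prime_orderOf_dvd_card' 2 (even_card_of_simple hna)
  obtain ⟨N, hN, hodd, hmem⟩ :=
    ZStar.UniqueCase.zcentral_of_iso (BenderConsumers23.iso_of_not_twoRank h ht)
  rcases hN.eq_bot_or_eq_top with rfl | rfl
  · have hc : t ∈ Subgroup.center G := Subgroup.mem_center_iff.2 fun g => by
      have h1 : t * g * t⁻¹ * g⁻¹ = 1 := Subgroup.mem_bot.1 (hmem g)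
      rw [mul_inv_eq_one, mul_inv_eq_iff_eq_mul] at h1
      exact h1.symm
    rcases (inferInstance : (Subgroup.center G).Normal).eq_bot_or_eq_top with hb | hb
    · rw [hb, Subgroup.mem_bot] at hc
      exact invol_ne_one ht hc
    · exact hna ⟨⟨fun a b => (Subgroup.mem_center_iff.1 (hb ▸ Subgroup.mem_top a) b).symm⟩⟩
  · rw [Subgroup.card_top] at hodd
    exact Nat.not_even_iff_odd.2 hodd (even_iff_two_dvd.2 (even_card_of_simple hna))

theorem mem_of_conj {M : Subgroup G} [hM : M.Normal] {A B : Subgroup G} (hA : A ≤ M) {g : G}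
    (h : B = A.map (MulAut.conj g).toMonoidHom) : B ≤ M := by
  rintro b hb
  rw [h] at hb
  obtain ⟨a, ha, rfl⟩ := hb
  exact hM.conj_mem a (hA ha) g

variable [Finite G] (hG : AbConj G) {M : Subgroup G} [M.Normal] [IsSimpleGroup ↥M]
  (hna : ¬ IsMulCommutative ↥M)

include hG hna

theorem invol_mem {x : G} (hx : orderOf x = 2) : x ∈ M := by
  haveI : Fact (Nat.Prime 2) := ⟨Nat.prime_two⟩
  obtain ⟨t, ht⟩ := exists_prime_orderOf_dvd_card' (G := ↥M) 2 (even_card_of_simple hna)
  obtain ⟨g, hg⟩ := hG (zpowers (t : G)) (zpowers x) inferInstance inferInstance (by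
    rw [Nat.card_zpowers, Nat.card_zpowers, Subgroup.orderOf_coe, ht, hx])
  exact mem_of_conj (M := M) (zpowers_le.2 t.2) hg (mem_zpowers x)

/-- A `2`-element squares to `1`. -/
theorem sq_eq_one {x : G} {k : ℕ} (hx : x ^ 2 ^ k = 1) : x * x = 1 := by
  by_contra h
  obtain ⟨j, hj, ho⟩ := (Nat.dvd_prime_pow Nat.prime_two).1 (orderOf_dvd_of_pow_eq_one hx)
  have hj2 : 2 ≤ j := by
    by_contra hlt
    apply h
    rw [← pow_two]
    exact orderOf_dvd_iff_pow_eq_one.1 (ho ▸ (Nat.pow_dvd_pow 2 (by omega : j ≤ 1)).trans (by simp))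
  set y := x ^ 2 ^ (j - 2)
  have hy : orderOf y = 4 := by
    rw [orderOf_pow_of_dvd (pow_ne_zero _ two_ne_zero) (ho ▸ Nat.pow_dvd_pow 2 (by omega)), ho,
      Nat.pow_div (by omega) two_pos, show j - (j - 2) = 2 by omega]
    norm_num
  obtain ⟨a, b, ha, hb, hab, haa, hbb, hc⟩ := twoRank_of_simple hna
  -- the four-group
  let V : Subgroup G :=
    { carrier := {1, (a : G), (b : G), (a : G) * b}
      one_mem' := by simp
      inv_mem' := by
        have haa' : (a : G) * a = 1 := congrArg Subtype.val haa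
        have hbb' : (b : G) * b = 1 := congrArg Subtype.val hbb
        have hc' : (a : G) * b = b * a := congrArg Subtype.val hc
        intro z hz
        simp only [Set.mem_insert_iff, Set.mem_singleton_iff] at hz ⊢
        rcases hz with rfl | rfl | rfl | rfl
        · simp
        · simp [inv_eq_of_mul_eq_one_right haa']
        · simp [inv_eq_of_mul_eq_one_right hbb']
        · right; right; right
          rw [mul_inv_rev, inv_eq_of_mul_eq_one_right haa', inv_eq_of_mul_eq_one_right hbb', hc']
      mul_mem' := by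
        have haa' : (a : G) * a = 1 := congrArg Subtype.val haa
        have hbb' : (b : G) * b = 1 := congrArg Subtype.val hbb
        have hc' : (b : G) * a = a * b := (congrArg Subtype.val hc).symm
        have e1 : ∀ c : G, (a : G) * (a * c) = c := fun c => by rw [← mul_assoc, haa', one_mul]
        have e2 : ∀ c : G, (b : G) * (a * c) = a * (b * c) := fun c => by
          rw [← mul_assoc, hc', mul_assoc]
        intro z w hz hw
        simp only [Set.mem_insert_iff, Set.mem_singleton_iff] at hz hw ⊢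
        rcases hz with rfl | rfl | rfl | rfl <;> rcases hw with rfl | rfl | rfl | rfl <;>
          simp [mul_assoc, e1, e2, haa', hbb', hc'] }
  have hVc : IsMulCommutative ↥V := by
    refine ⟨⟨fun p q => Subtype.ext ?_⟩⟩
    have hc' : (a : G) * b = b * a := congrArg Subtype.val hc
    have h1 : Commute (a : G) b := hc'
    obtain ⟨p, hp⟩ := p
    obtain ⟨q, hq⟩ := q
    show p * q = q * p
    rcases hp with rfl | rfl | rfl | rfl <;> rcases hq with rfl | rfl | rfl | rfl <;>
      first
      | simp
      | exact h1.eq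
      | exact h1.symm.eq
      | exact ((Commute.refl (a : G)).mul_right h1).eq
      | exact ((Commute.refl (a : G)).mul_right h1).symm.eq
      | exact (h1.symm.mul_right (Commute.refl (b : G))).eq
      | exact (h1.symm.mul_right (Commute.refl (b : G))).symm.eq
  have hVsq : ∀ z ∈ V, z * z = 1 := by
    have haa' : (a : G) * a = 1 := congrArg Subtype.val haa
    have hbb' : (b : G) * b = 1 := congrArg Subtype.val hbb
    have hc' : (a : G) * b = b * a := congrArg Subtype.val hc
    rintro z (rfl | rfl | rfl | rfl)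
    · simp
    · exact haa'
    · exact hbb'
    · calc (a : G) * b * (a * b) = a * (b * a) * b := by group
        _ = a * (a * b) * b := by rw [hc']
        _ = (a * a) * (b * b) := by group
        _ = 1 := by rw [haa', hbb', one_mul]
  have hVcard : Nat.card ↥V = 4 := by
    show Nat.card ↥({1, (a : G), (b : G), (a : G) * b} : Set G) = 4
    have ha' : (a : G) ≠ 1 := fun h => ha (Subtype.ext h)
    have hb' : (b : G) ≠ 1 := fun h => hb (Subtype.ext h)
    have hab' : (a : G) ≠ b := fun h => hab (Subtype.ext h)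
    have haa' : (a : G) * a = 1 := congrArg Subtype.val haa
    have hbb' : (b : G) * b = 1 := congrArg Subtype.val hbb
    have h3 : (a : G) * b ≠ 1 := fun h => hab' (mul_left_cancel (haa'.trans h.symm))
    rw [Nat.card_coe_set_eq, Set.ncard_insert_of_notMem, Set.ncard_insert_of_notMem,
      Set.ncard_insert_of_notMem, Set.ncard_singleton]
    · simpa using ha'
    · simp [hab', hb']
    · simp [Ne.symm ha', Ne.symm hb', Ne.symm h3]
  obtain ⟨g, hg⟩ := hG V (zpowers y) hVc inferInstance (by rw [hVcard, Nat.card_zpowers, hy])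
  have hy' : y ∈ zpowers y := mem_zpowers y
  rw [hg] at hy'
  obtain ⟨v, hv, hvy⟩ := hy'
  have hyy : y * y = 1 := by
    rw [← hvy, ← map_mul, hVsq v hv, map_one]
  have h2 : orderOf y ∣ 2 := orderOf_dvd_of_pow_eq_one (by rw [pow_two, hyy])
  rw [hy] at h2
  exact absurd (Nat.le_of_dvd two_pos h2) (by norm_num)

/-- The Sylow 2-subgroups are elementary abelian. -/
theorem isElementaryAbelian (S : Sylow 2 G) : Cfsg.IsElementaryAbelian 2 (S : Subgroup G) := by
  have hsq : ∀ a ∈ (S : Subgroup G), a * a = 1 := fun a ha => by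
    obtain ⟨k, hk⟩ := S.2 ⟨a, ha⟩
    exact sq_eq_one hG hna (congrArg Subtype.val hk)
  refine ⟨⟨⟨fun a b => ?_⟩⟩, fun a ha => by rw [pow_two]; exact hsq a ha⟩
  apply Subtype.ext
  show (a : G) * b = b * a
  have h1 := hsq _ (mul_mem a.2 b.2)
  calc (a : G) * b = ((a : G) * b)⁻¹ := (inv_eq_of_mul_eq_one_right h1).symm
    _ = b * a := by
      rw [mul_inv_rev, inv_eq_of_mul_eq_one_right (hsq _ a.2),
        inv_eq_of_mul_eq_one_right (hsq _ b.2)]

theorem sylow_le (S : Sylow 2 G) : (S : Subgroup G) ≤ M := by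
  intro a ha
  rcases eq_or_ne a 1 with rfl | h1
  · exact M.one_mem
  · exact invol_mem hG hna
      (orderOf_eq_prime ((isElementaryAbelian hG hna S).2 a ha) h1)

theorem odd_index : Odd M.index := by
  haveI : Fact (Nat.Prime 2) := ⟨Nat.prime_two⟩
  obtain ⟨S⟩ := (inferInstance : Nonempty (Sylow 2 G))
  rw [← Nat.not_even_iff_odd]
  intro h
  exact S.not_dvd_index (h.two_dvd.trans (Subgroup.index_dvd_of_le (sylow_le hG hna S)))

/-- Two-subgroups of equal order are conjugate. -/
theorem sameOrderConj_two : ∀ H K : Subgroup G, IsPGroup 2 H → IsPGroup 2 K →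
    Nat.card H = Nat.card K → ∃ g : G, K = H.map (MulAut.conj g).toMonoidHom := by
  intro H K hH hK hc
  have hab : ∀ X : Subgroup G, IsPGroup 2 X → IsMulCommutative ↥X := fun X hX => by
    obtain ⟨T, hT⟩ := hX.exists_le_sylow
    haveI := (isElementaryAbelian hG hna T).1
    exact ⟨⟨fun p q => Subtype.ext (setLike_mul_comm (s := (T : Subgroup G)) (hT p.2) (hT q.2))⟩⟩
  exact hG H K (hab H hH) (hab K hK) hc

end Cfsg.Agent.Lib.SameOrderConj77
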