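import Cfsg.Agent.Lib.AutPSL.Basic

/-!
# The root subgroup of `PSL(2,q)` when `-1` is not a square

Its non-trivial elements are not real and commute with no involution.
Owner: helper77.
-/

set_option autoImplicit false

namespace Cfsg.Agent.Lib.SameOrderConj77.ReePSL

open Matrix
open scoped MatrixGroups

variable {F : Type*} [Field F]

local notation "SL2" => Matrix.SpecialLinearGroup (Fin 2) F
local notation "PSL2" => Matrix.ProjectiveSpecialLinearGroup (Fin 2) F

/-- The matrix `(1 b; 0 1)`. -/
def upper (b : F) : Matrix.SpecialLinearGroup (Fin 2) F :=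
  ⟨!![1, b; 0, 1], by simp [Matrix.det_fin_two]⟩

theorem coe_upper (b : F) :
    (upper b : Matrix (Fin 2) (Fin 2) F) = !![1, b; 0, 1] := rfl

theorem upper_mul (a b : F) : upper a * upper b = upper (a + b) := by
  apply Subtype.ext
  show (!![1, a; 0, 1] : Matrix (Fin 2) (Fin 2) F) * !![1, b; 0, 1] = !![1, a + b; 0, 1]
  rw [Matrix.mul_fin_two]
  simp [add_comm]

/-- The root homomorphism. -/
def root : Multiplicative F →* Matrix.ProjectiveSpecialLinearGroup (Fin 2) F :=
  MonoidHom.mk' (fun b => (QuotientGroup.mk (upper b.toAdd) : PSL2)) fun a b => by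
    rw [← QuotientGroup.mk_mul, upper_mul]
    rfl

theorem root_injective : Function.Injective (root : Multiplicative F →* PSL2) := by
  rw [injective_iff_map_eq_one]
  intro b hb
  have h : (QuotientGroup.mk (upper b.toAdd) : PSL2) = QuotientGroup.mk 1 := hb
  obtain ⟨c, hc⟩ := (AutPSL.mk_eq_mk_iff _ _).1 h
  have h1 := congrFun (congrFun hc 0) 0
  have h2 := congrFun (congrFun hc 0) 1
  simp [upper] at h1 h2
  subst h1
  simp at h2
  exact h2

/-- The root subgroup. -/
def U : Subgroup (Matrix.ProjectiveSpecialLinearGroup (Fin 2) F) := (root (F := F)).range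

theorem card_U [Fintype F] : Nat.card (U : Subgroup PSL2) = Fintype.card F := by
  rw [← Nat.card_eq_fintype_card]
  exact (Nat.card_congr ((MonoidHom.ofInjective root_injective).toEquiv)).symm.trans
    (Nat.card_congr Multiplicative.toAdd)

theorem pow_char_eq_one (p : ℕ) [CharP F p] {x : PSL2} (hx : x ∈ (U : Subgroup PSL2)) :
    x ^ p = 1 := by
  obtain ⟨b, rfl⟩ := hx
  rw [← map_pow, ← map_one (root (F := F))]
  congr 1
  apply Multiplicative.toAdd.injective
  simp [toAdd_pow]

/-- No element of `PSL(2,q)` inverts a non-trivial element of the root subgroup. -/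
theorem not_inverted (hns : ∀ a : F, a * a ≠ -1) {x : PSL2}
    (hx : x ∈ (U : Subgroup PSL2)) (hx1 : x ≠ 1) (g : PSL2) : g * x * g⁻¹ ≠ x⁻¹ := by
  obtain ⟨b, rfl⟩ := hx
  set c := b.toAdd with hc
  have hb : c ≠ 0 := fun h => hx1 (by
    rw [show b = 1 from Multiplicative.toAdd.injective h, map_one])
  obtain ⟨s, rfl⟩ := QuotientGroup.mk_surjective g
  intro h
  have h1 : (QuotientGroup.mk (s * upper c) : PSL2) = QuotientGroup.mk (upper (-c) * s) := by
    have : (QuotientGroup.mk (upper (-c)) : PSL2) = (root b)⁻¹ := by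
      rw [← map_inv]
      rfl
    rw [QuotientGroup.mk_mul, QuotientGroup.mk_mul, this, ← h]
    show _ = (QuotientGroup.mk s : PSL2) * root b * (QuotientGroup.mk s)⁻¹ * QuotientGroup.mk s
    rw [inv_mul_cancel_right]
    rfl
  obtain ⟨d, hd⟩ := (AutPSL.mk_eq_mk_iff _ _).1 h1
  set M : Matrix (Fin 2) (Fin 2) F := (s : Matrix (Fin 2) (Fin 2) F) with hMdef
  have hdet : M.det = 1 := s.det_coe
  rw [Matrix.det_fin_two] at hdet
  have e00 := congrFun (congrFun hd 0) 0
  have e01 := congrFun (congrFun hd 0) 1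
  have e10 := congrFun (congrFun hd 1) 0
  have e11 := congrFun (congrFun hd 1) 1
  simp [coe_upper, ← hMdef, Matrix.SpecialLinearGroup.coe_mul, Matrix.mul_apply, Fin.sum_univ_two, Matrix.smul_apply] at e00 e01 e10 e11
  by_cases h10 : M 1 0 = 0
  · have hd1 : d = 1 := by
      have h00 : M 0 0 ≠ 0 := fun h => by simp [h, h10] at hdet
      rw [h10] at e00
      simp at e00
      exact mul_right_cancel₀ h00 (e00.symm.trans (one_mul _).symm)
    subst hd1
    rw [h10, mul_zero, sub_zero] at hdet
    have h3 : M 0 0 = -M 1 1 := mul_left_cancel₀ hb (by linear_combination -e01)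
    refine hns (M 1 1) ?_
    linear_combination (-1 : F) * hdet + M 1 1 * h3
  · have hd1 : d = 1 := mul_right_cancel₀ h10 (e10.symm.trans (one_mul _).symm)
    subst hd1
    exact h10 ((mul_eq_zero.1 (show c * M 1 0 = 0 by linear_combination -e00)).resolve_left hb)

/-- An element squaring to `1` and commuting with a non-trivial element of the root subgroup is `1`. -/
theorem eq_one_of_commute (h2 : (2 : F) ≠ 0) {x : PSL2}
    (hx : x ∈ (U : Subgroup PSL2)) (hx1 : x ≠ 1) {g : PSL2} (hg : g * g = 1)
    (hc : g * x = x * g) : g = 1 := by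
  obtain ⟨b, rfl⟩ := hx
  set c := b.toAdd with hc'
  have hb : c ≠ 0 := fun h => hx1 (by
    rw [show b = 1 from Multiplicative.toAdd.injective h, map_one])
  obtain ⟨s, rfl⟩ := QuotientGroup.mk_surjective g
  have h1 : (QuotientGroup.mk (s * upper c) : PSL2) = QuotientGroup.mk (upper c * s) := by
    rw [QuotientGroup.mk_mul, QuotientGroup.mk_mul]
    exact hc
  obtain ⟨d, hd⟩ := (AutPSL.mk_eq_mk_iff _ _).1 h1
  have hsq : (QuotientGroup.mk (s * s) : PSL2) = QuotientGroup.mk 1 := by
    rw [QuotientGroup.mk_mul]; exact hg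
  obtain ⟨e, he⟩ := (AutPSL.mk_eq_mk_iff _ _).1 hsq
  set M : Matrix (Fin 2) (Fin 2) F := (s : Matrix (Fin 2) (Fin 2) F) with hMdef
  have hdet : M.det = 1 := s.det_coe
  rw [Matrix.det_fin_two] at hdet
  have e00 := congrFun (congrFun hd 0) 0
  have e01 := congrFun (congrFun hd 0) 1
  have e10 := congrFun (congrFun hd 1) 0
  have f00 := congrFun (congrFun he 0) 0
  have f01 := congrFun (congrFun he 0) 1
  simp [coe_upper, ← hMdef, Matrix.SpecialLinearGroup.coe_mul, Matrix.mul_apply, Fin.sum_univ_two, Matrix.smul_apply] at e00 e01 e10 f00 f01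
  by_cases h10 : M 1 0 = 0
  · rw [h10, mul_zero, sub_zero] at hdet
    have h00 : M 0 0 ≠ 0 := fun h => by simp [h] at hdet
    have hd1 : d = 1 := by
      rw [h10] at e00
      simp at e00
      exact mul_right_cancel₀ h00 (e00.symm.trans (one_mul _).symm)
    subst hd1
    have h3 : M 1 1 = M 0 0 := mul_left_cancel₀ hb (by linear_combination e01)
    have he0 : e ≠ 0 := fun h => by simp [h] at f00
    have h4 : M 0 1 = 0 := by
      rcases mul_eq_zero.1 (show (2 * M 0 0) * M 0 1 = 0 by
        rcases f01 with h | h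
        · exact absurd h he0
        · rw [h3] at h; linear_combination h) with h | h
      · exact absurd ((mul_eq_zero.1 h).resolve_left h2) h00
      · exact h
    refine ((AutPSL.mk_eq_mk_iff _ _).2 ⟨(M 0 0)⁻¹, ?_⟩)
    ext i j
    fin_cases i <;> fin_cases j <;> simp [Matrix.smul_apply, ← hMdef, h10, h3, h4, h00]
  · have hd1 : d = 1 := mul_right_cancel₀ h10 (e10.symm.trans (one_mul _).symm)
    subst hd1
    exact absurd ((mul_eq_zero.1 (show c * M 1 0 = 0 by linear_combination e00)).resolve_left hb) h10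

end Cfsg.Agent.Lib.SameOrderConj77.ReePSL
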