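import Cfsg.Agent.Lib.IndexP
import Cfsg.Agent.Lib.Linear.Order
import Cfsg.Agent.Lib.OddCentTrans.Basic
import Cfsg.Agent.Lib.SameOrderConj77.ReePSL
import Cfsg.Agent.Lib.SameOrderConj77.Basic

/-!
# No group of Ree type

The root subgroup of `C(t)` has non-real elements of order 3, and a larger 3-group gives an element
of order 3 inverted by `t`.  So not all subgroups of order 3 are conjugate.
Owner: helper77.
-/

set_option autoImplicit false

namespace Cfsg.Agent.Lib.SameOrderConj77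

open Matrix (ProjectiveSpecialLinearGroup)
open Subgroup Cfsg.Agent.Lib.Involutions.Basic

universe u

theorem zmod_two_cases : ∀ a : Multiplicative (ZMod 2), a = 1 ∨ a = Multiplicative.ofAdd 1 := by
  decide

theorem pow_odd_conj {G : Type*} [Group G] {h x : G} (hx : h * x * h⁻¹ = x⁻¹) {k : ℕ} (hk : Odd k) :
    h ^ k * x * (h ^ k)⁻¹ = x⁻¹ := by
  have h2 : h ^ 2 * x * (h ^ 2)⁻¹ = x := by
    calc h ^ 2 * x * (h ^ 2)⁻¹ = h * (h * x * h⁻¹) * h⁻¹ := by rw [pow_two]; group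
      _ = h * x⁻¹ * h⁻¹ := by rw [hx]
      _ = (h * x * h⁻¹)⁻¹ := by group
      _ = x := by rw [hx, inv_inv]
  have he : ∀ m : ℕ, (h ^ 2) ^ m * x * ((h ^ 2) ^ m)⁻¹ = x := by
    intro m
    induction m with
    | zero => simp
    | succ m ih =>
      calc (h ^ 2) ^ (m + 1) * x * ((h ^ 2) ^ (m + 1))⁻¹
          = h ^ 2 * ((h ^ 2) ^ m * x * ((h ^ 2) ^ m)⁻¹) * (h ^ 2)⁻¹ := by rw [pow_succ']; group
        _ = x := by rw [ih, h2]
  obtain ⟨m, rfl⟩ := hk
  calc h ^ (2 * m + 1) * x * (h ^ (2 * m + 1))⁻¹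
      = h * ((h ^ 2) ^ m * x * ((h ^ 2) ^ m)⁻¹) * h⁻¹ := by rw [pow_succ', pow_mul]; group
    _ = x⁻¹ := by rw [he, hx]

/-- A group with a Sylow 2-subgroup of order 2 has a normal subgroup of odd order containing all
elements of odd order. -/
theorem exists_odd_complement {C : Type*} [Group C] [Finite C] (R : Sylow 2 C)
    (hR : Nat.card ↥(R : Subgroup C) = 2) :
    ∃ K : Subgroup C, K.Normal ∧ Odd (Nat.card ↥K) ∧ ∀ v : C, Odd (orderOf v) → v ∈ K := by
  haveI : Fact (Nat.Prime 2) := ⟨Nat.prime_two⟩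
  haveI hcyc : IsCyclic ↥(R : Subgroup C) := isCyclic_of_prime_card hR
  have hmin : (Nat.card C).minFac = 2 := by
    rw [Nat.minFac_eq_two_iff]
    exact hR ▸ Subgroup.card_subgroup_dvd_card _
  have hnc := hcyc.normalizer_le_centralizer hmin
  refine ⟨(MonoidHom.transferSylow R hnc).ker, inferInstance, ?_, fun v hv => MonoidHom.mem_ker.2 ?_⟩
  · rw [← Nat.not_even_iff_odd, even_iff_two_dvd]
    exact MonoidHom.not_dvd_card_ker_transferSylow R hnc
  · refine orderOf_eq_one_iff.1 (Nat.eq_one_of_dvd_coprimes (Nat.coprime_two_right.2 hv)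
      (orderOf_map_dvd _ _) ?_)
    exact (_root_.orderOf_dvd_natCard _).trans hR.dvd

theorem conj_mem_map {X : Type*} [Group X] {C : Subgroup X} (K : Subgroup ↥C) [hK : K.Normal]
    {t : X} (ht : t ∈ C) : ∀ y ∈ K.map C.subtype, t * y * t⁻¹ ∈ K.map C.subtype := by
  rintro _ ⟨y, hy, rfl⟩
  exact ⟨⟨t, ht⟩ * y * ⟨t, ht⟩⁻¹, hK.conj_mem y hy _, rfl⟩

variable {M : Type u} [Group M] {t : M} {F : Type} [Field F]
  (φ : ↥(centralizer ({t} : Set M)) ≃*
    Multiplicative (ZMod 2) × ProjectiveSpecialLinearGroup (Fin 2) F)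

/-- The image of the root subgroup. -/
def rootSub : Subgroup M :=
  (((ReePSL.U (F := F)).map (MonoidHom.inr (Multiplicative (ZMod 2)) _)).map φ.symm.toMonoidHom).map
    (centralizer ({t} : Set M)).subtype

theorem card_rootSub [Fintype F] : Nat.card ↥(rootSub φ) = Fintype.card F := by
  rw [rootSub, card_map_of_injective (subtype_injective _),
    card_map_of_injective φ.symm.injective, card_map_of_injective, ReePSL.card_U]
  exact fun a b h => congrArg Prod.snd h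

theorem rootSub_le : rootSub φ ≤ centralizer ({t} : Set M) := map_subtype_le _

theorem exists_root {x : M} (hx : x ∈ rootSub φ) :
    ∃ (hc : x ∈ centralizer ({t} : Set M)) (u : ProjectiveSpecialLinearGroup (Fin 2) F),
      u ∈ ReePSL.U (F := F) ∧ φ ⟨x, hc⟩ = (1, u) := by
  obtain ⟨_, ⟨_, ⟨u, hu, rfl⟩, rfl⟩, rfl⟩ := hx
  exact ⟨Subtype.prop _, u, hu, by simp⟩

theorem sq_component (h2 : (2 : F) ≠ 0) {x r : M} (hx : x ∈ rootSub φ) (hx1 : x ≠ 1)
    (hrt : r ∈ centralizer ({t} : Set M)) (hr : r * r = 1) (hc : r * x = x * r) :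
    (φ ⟨r, hrt⟩).2 = 1 := by
  obtain ⟨hxc, u, hu, he⟩ := exists_root φ hx
  refine ReePSL.eq_one_of_commute h2 hu ?_ ?_ ?_
  · rintro rfl
    apply hx1
    have h := φ.injective (he.trans (map_one φ).symm)
    exact congrArg Subtype.val h
  · rw [← Prod.snd_mul, ← map_mul, show (⟨r, hrt⟩ * ⟨r, hrt⟩ : ↥(centralizer ({t} : Set M))) = 1
      from Subtype.ext hr, map_one]
    rfl
  · have h := congrArg φ (show (⟨r, hrt⟩ * ⟨x, hxc⟩ : ↥(centralizer ({t} : Set M))) = ⟨x, hxc⟩ * ⟨r, hrt⟩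
      from Subtype.ext hc)
    rw [map_mul, map_mul, he] at h
    exact congrArg Prod.snd h

theorem not_inverted_in_centralizer (hns : ∀ a : F, a * a ≠ -1) {x h : M} (hx : x ∈ rootSub φ)
    (hx1 : x ≠ 1) (hht : h ∈ centralizer ({t} : Set M)) : h * x * h⁻¹ ≠ x⁻¹ := by
  obtain ⟨hxc, u, hu, he⟩ := exists_root φ hx
  intro hh
  have h1 := congrArg φ (show (⟨h, hht⟩ * ⟨x, hxc⟩ * ⟨h, hht⟩⁻¹ : ↥(centralizer ({t} : Set M))) =
    ⟨x, hxc⟩⁻¹ from Subtype.ext hh)
  simp only [map_mul, map_inv, he] at h1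
  refine ReePSL.not_inverted hns hu ?_ _ (congrArg Prod.snd h1)
  rintro rfl
  apply hx1
  exact congrArg Subtype.val (φ.injective (he.trans (map_one φ).symm))

omit M t φ in
variable {G : Type u} [Group G] [Finite G] in
/-- The root elements are not real in `G`. -/
theorem not_real {M : Subgroup G} [M.Normal] (hS : ∀ P : Sylow 2 G, Cfsg.IsElementaryAbelian 2 (P : Subgroup G))
    (hle : ∀ P : Sylow 2 G, (P : Subgroup G) ≤ M) (hodd : Odd M.index) {t : ↥M} (ht : orderOf t = 2) [Fintype F]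
    (φ : ↥(centralizer ({t} : Set ↥M)) ≃*
      Multiplicative (ZMod 2) × ProjectiveSpecialLinearGroup (Fin 2) F)
    (h2 : (2 : F) ≠ 0) (hns : ∀ a : F, a * a ≠ -1) {x : ↥M} (hx : x ∈ rootSub φ) (hx1 : x ≠ 1)
    (g : G) : g * (x : G) * g⁻¹ ≠ (x : G)⁻¹ := by
  intro hg
  haveI : Fact (Nat.Prime 2) := ⟨Nat.prime_two⟩
  set C := centralizer ({(x : G)} : Set G) with hC
  have htC : (t : G) ∈ C := mem_centralizer_singleton_iff.2
    (congrArg Subtype.val (mem_centralizer_singleton_iff.1 (rootSub_le φ hx)).symm)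
  set T := zpowers (⟨(t : G), htC⟩ : ↥C)
  have hto : orderOf (⟨(t : G), htC⟩ : ↥C) = 2 := by
    rw [Subgroup.orderOf_mk]
    exact (Subgroup.orderOf_coe t).trans ht
  obtain ⟨R, hR⟩ := (IsPGroup.of_card (p := 2) (n := 1)
    (show Nat.card ↥T = 2 ^ 1 by rw [Nat.card_zpowers, hto, pow_one])).exists_le_sylow
  have hRT : ∀ r ∈ R, (r : G) = 1 ∨ (r : G) = t := by
    intro r hr
    obtain ⟨P, hP⟩ := (R.2.map C.subtype).exists_le_sylow
    have hrP : (r : G) ∈ (P : Subgroup G) := hP ⟨r, hr, rfl⟩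
    have htP : (t : G) ∈ (P : Subgroup G) := hP ⟨_, hR (mem_zpowers _), rfl⟩
    have hel := hS P
    haveI := hel.1
    have hrM : (r : G) ∈ M := hle P hrP
    set r' : ↥M := ⟨r, hrM⟩
    have hrt : r' ∈ centralizer ({t} : Set ↥M) := mem_centralizer_singleton_iff.2
      (Subtype.ext (setLike_mul_comm (s := (P : Subgroup G)) hrP htP))
    have hr2 : r' * r' = 1 := Subtype.ext (by
      show (r : G) * r = 1
      rw [← pow_two]; exact hel.2 _ hrP)
    have h1 := sq_component φ h2 hx hx1 hrt hr2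
      (Subtype.ext (mem_centralizer_singleton_iff.1 r.2))
    have htt : t ∈ centralizer ({t} : Set ↥M) := mem_centralizer_singleton_iff.2 rfl
    have ht1 := sq_component φ h2 hx hx1 htt (invol_mul_self ht)
      (Subtype.ext (mem_centralizer_singleton_iff.1 htC))
    rcases eq_or_ne r' 1 with e | e
    · exact Or.inl (congrArg Subtype.val e)
    · right
      have hz := zmod_two_cases
      have hr0 : (φ ⟨r', hrt⟩).1 = Multiplicative.ofAdd 1 := (hz _).resolve_left fun h => e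
        (congrArg Subtype.val (φ.injective ((Prod.ext h h1 : φ ⟨r', hrt⟩ = 1).trans (map_one φ).symm)))
      have ht0 : (φ ⟨t, htt⟩).1 = Multiplicative.ofAdd 1 := (hz _).resolve_left fun h =>
        invol_ne_one ht
          (congrArg Subtype.val (φ.injective ((Prod.ext h ht1 : φ ⟨t, htt⟩ = 1).trans (map_one φ).symm)))
      have := φ.injective (Prod.ext (hr0.trans ht0.symm) (h1.trans ht1.symm) : φ ⟨r', hrt⟩ = φ ⟨t, htt⟩)
      exact congrArg (fun z : ↥(centralizer ({t} : Set ↥M)) => ((z : ↥M) : G)) this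
  -- the conjugate of `R` by `g` is a Sylow subgroup of `C` as well
  have hgC : ∀ y ∈ C, g * y * g⁻¹ ∈ C := by
    intro y hy
    have hy' := mem_centralizer_singleton_iff.1 hy
    refine mem_centralizer_singleton_iff.2 ?_
    have h3 : g * (y * x) * g⁻¹ = g * (x * y) * g⁻¹ := by rw [hy']
    have h4 : (g * y * g⁻¹) * (g * x * g⁻¹) = (g * x * g⁻¹) * (g * y * g⁻¹) := by
      simpa [mul_assoc] using h3
    rw [hg] at h4
    exact (Commute.inv_right_iff.1 h4)
  have ht'C : g * (t : G) * g⁻¹ ∈ C := hgC _ htC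
  have ht'o : orderOf (⟨g * (t : G) * g⁻¹, ht'C⟩ : ↥C) = 2 := by
    rw [Subgroup.orderOf_mk]
    exact (orderOf_conj_eq g (t : G)).trans ((Subgroup.orderOf_coe t).trans ht)
  obtain ⟨R', hR'⟩ := (IsPGroup.of_card (p := 2) (n := 1)
    (show Nat.card ↥(zpowers (⟨g * (t : G) * g⁻¹, ht'C⟩ : ↥C)) = 2 ^ 1 by
      rw [Nat.card_zpowers, ht'o, pow_one])).exists_le_sylow
  obtain ⟨c, hc⟩ := MulAction.exists_smul_eq ↥C R' R
  have hmem : c * ⟨g * (t : G) * g⁻¹, ht'C⟩ * c⁻¹ ∈ (R : Subgroup ↥C) := by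
    rw [← hc, Sylow.coe_subgroup_smul]
    exact Subgroup.smul_mem_pointwise_smul _ (MulAut.conj c) _ (hR' (mem_zpowers _))
  set h := (c : G) * g with hh
  have hfix : h * (t : G) * h⁻¹ = t := by
    have e : (c : G) * (g * (t : G) * g⁻¹) * (c : G)⁻¹ = h * (t : G) * h⁻¹ := by rw [hh]; group
    rcases hRT _ hmem with e1 | e1
    · exfalso
      have e2 : h * (t : G) * h⁻¹ = 1 := by rw [← e]; exact e1
      have e3 : (t : G) = 1 := by simpa using e2
      exact invol_ne_one ht (Subtype.ext e3)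
    · rw [← e]; exact e1
  have hinv : h * (x : G) * h⁻¹ = (x : G)⁻¹ := by
    have e : h * (x : G) * h⁻¹ = (c : G) * (g * (x : G) * g⁻¹) * (c : G)⁻¹ := by rw [hh]; group
    rw [e, hg]
    have hc' : Commute (c : G) (x : G) := mem_centralizer_singleton_iff.1 c.2
    rw [hc'.inv_right.eq, mul_inv_cancel_right]
  set k := h ^ M.index
  have hkM : k ∈ M := Subgroup.pow_index_mem M h
  have hkx : k * (x : G) * k⁻¹ = (x : G)⁻¹ := pow_odd_conj hinv hodd
  have hkt : k * (t : G) = t * k :=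
    (Commute.pow_left (mul_inv_eq_iff_eq_mul.1 hfix : Commute h (t : G)) _).eq
  exact not_inverted_in_centralizer φ hns hx hx1
    (h := ⟨k, hkM⟩) (mem_centralizer_singleton_iff.2 (Subtype.ext hkt)) (Subtype.ext hkx)

omit M t φ in
variable {M : Type u} [Group M] [Finite M] in
/-- A group of Ree order with centraliser `2 × PSL(2,q)` has an element of order 3 inverted by an
involution. -/
theorem exists_inverted_three (hS : ∀ P : Sylow 2 M, Cfsg.IsElementaryAbelian 2 (P : Subgroup M))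
    {t : M} (ht : orderOf t = 2) [Fintype F]
    (φ : ↥(centralizer ({t} : Set M)) ≃*
      Multiplicative (ZMod 2) × ProjectiveSpecialLinearGroup (Fin 2) F)
    {m : ℕ} (hm : 1 ≤ m) (hF : Fintype.card F = 3 ^ (2 * m + 1))
    (hM : Nat.card M =
      (3 ^ (2 * m + 1)) ^ 3 * ((3 ^ (2 * m + 1)) ^ 3 + 1) * (3 ^ (2 * m + 1) - 1)) :
    ∃ z : M, orderOf z = 3 ∧ t * z * t⁻¹ = z⁻¹ := by
  haveI : Fact (Nat.Prime 2) := ⟨Nat.prime_two⟩
  haveI : Fact (Nat.Prime 3) := ⟨Nat.prime_three⟩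
  set f := 2 * m + 1
  haveI : CharP F 3 := charP_of_card_eq_prime_pow hF
  have h2 : (2 : F) ≠ 0 := by
    intro h
    have : ((2 : ℕ) : F) = 0 := by exact_mod_cast h
    rw [CharP.cast_eq_zero_iff F 3] at this
    norm_num at this
  have h4 : Fintype.card F % 4 = 3 := by
    rw [hF, show (3 : ℕ) ^ f = 9 ^ m * 3 by rw [pow_succ, pow_mul]; norm_num, Nat.mul_mod,
      Nat.pow_mod]
    norm_num
  have hns : ∀ a : F, a * a ≠ -1 := fun a ha =>
    FiniteField.isSquare_neg_one_iff.1 ⟨a, ha.symm⟩ h4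
  set U := rootSub φ with hUdef
  have hUc : Nat.card ↥U = 3 ^ f := (card_rootSub φ).trans hF
  have hU3 : IsPGroup 3 ↥U := IsPGroup.of_card hUc
  obtain ⟨P, hP⟩ := hU3.exists_le_sylow
  have hPU : U.subgroupOf (P : Subgroup M) ≠ ⊤ := by
    intro h
    have hle : Nat.card ↥(P : Subgroup M) ≤ Nat.card ↥U :=
      Subgroup.card_le_of_le (subgroupOf_eq_top.1 h)
    have hPc : (3 ^ f) ^ 3 ∣ Nat.card ↥(P : Subgroup M) := by
      rw [← pow_mul]
      exact P.pow_dvd_card_of_pow_dvd_card (hM ▸ by rw [← pow_mul, mul_assoc]; exact dvd_mul_right _ _)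
    have := (Nat.le_of_dvd Nat.card_pos hPc).trans (hle.trans hUc.le)
    have h3 : 3 ^ f < (3 ^ f) ^ 3 :=
      lt_self_pow₀ (Nat.one_lt_pow (by omega) (by norm_num)) (by norm_num)
    omega
  -- the normaliser in `P` is larger and fixes some root element
  haveI : Group.IsNilpotent ↥(P : Subgroup M) := P.2.isNilpotent
  have hlt := normalizerCondition_of_isNilpotent (U.subgroupOf (P : Subgroup M)) hPU.lt_top
  set V : Subgroup M := (normalizer ((U.subgroupOf (P : Subgroup M) : Subgroup _) :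
    Set ↥(P : Subgroup M))).map (P : Subgroup M).subtype
  have hVU : U < V := by
    rw [← map_subgroupOf_eq_of_le hP]
    exact (map_lt_map_iff_of_injective (subtype_injective _)).2 hlt
  have hVp : IsPGroup 3 ↥V := (P.2.to_subgroup _).map _
  haveI : (U.subgroupOf V).Normal := by
    refine ⟨fun a ha v => ?_⟩
    obtain ⟨v', hv', hve⟩ := v.2
    rw [mem_subgroupOf] at ha ⊢
    have h1 := (Subgroup.mem_normalizer_iff.1 hv' ⟨(a : M), hP ha⟩).1 (mem_subgroupOf.2 ha)
    rw [mem_subgroupOf] at h1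
    simpa [← hve] using h1
  haveI : Nontrivial ↥(U.subgroupOf V) := by
    rw [← Finite.one_lt_card_iff_nontrivial,
      Nat.card_congr (subgroupOfEquivOfLe hVU.le).toEquiv, hUc]
    exact Nat.one_lt_pow (by omega) (by norm_num)
  obtain ⟨x0, hx0, hxc0, hx01⟩ : ∃ x0 : ↥V, x0 ∈ U.subgroupOf V ∧ x0 ∈ center ↥V ∧ x0 ≠ 1 := by
    haveI : Finite ↥V := inferInstance
    obtain ⟨x0, hx0, hne⟩ := IndexP.exists_center_mem hVp (U.subgroupOf V)
      ((nontrivial_iff_ne_bot _).1 inferInstance)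
    exact ⟨x0, hx0.1, hx0.2, hne⟩
  set x : M := (x0 : M)
  have hxU : x ∈ U := hx0
  have hx1 : x ≠ 1 := fun h => hx01 (Subtype.ext h)
  set C := centralizer ({x} : Set M)
  have hVC : V ≤ C := fun v hv => mem_centralizer_singleton_iff.2
    (congrArg Subtype.val (mem_center_iff.1 hxc0 ⟨v, hv⟩))
  have hxt : t * x = x * t := (mem_centralizer_singleton_iff.1 (rootSub_le φ hxU)).symm
  have htC : t ∈ C := mem_centralizer_singleton_iff.2 hxt
  -- the normal complement of `⟨t⟩` in `C`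
  have hto : orderOf (⟨t, htC⟩ : ↥C) = 2 := by rw [Subgroup.orderOf_mk]; exact ht
  obtain ⟨R, hR⟩ := (IsPGroup.of_card (p := 2) (n := 1)
    (show Nat.card ↥(zpowers (⟨t, htC⟩ : ↥C)) = 2 ^ 1 by
      rw [Nat.card_zpowers, hto, pow_one])).exists_le_sylow
  have hRe : (R : Subgroup ↥C) = zpowers (⟨t, htC⟩ : ↥C) := by
    refine le_antisymm (fun r hr => ?_) hR
    obtain ⟨P2, hP2⟩ := (R.2.map C.subtype).exists_le_sylow
    have hrP : (r : M) ∈ (P2 : Subgroup M) := hP2 ⟨r, hr, rfl⟩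
    have htP : t ∈ (P2 : Subgroup M) := hP2 ⟨_, hR (mem_zpowers _), rfl⟩
    have hel := hS P2
    haveI := hel.1
    have hrt : (r : M) ∈ centralizer ({t} : Set M) := mem_centralizer_singleton_iff.2
      (setLike_mul_comm (s := (P2 : Subgroup M)) hrP htP)
    have hr2 : (r : M) * r = 1 := by rw [← pow_two]; exact hel.2 _ hrP
    have h1 := sq_component φ h2 hxU hx1 hrt hr2 (mem_centralizer_singleton_iff.1 r.2)
    have htt : t ∈ centralizer ({t} : Set M) := mem_centralizer_singleton_iff.2 rfl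
    have ht1 := sq_component φ h2 hxU hx1 htt (invol_mul_self ht) hxt
    have hz := zmod_two_cases
    rcases hz (φ ⟨r, hrt⟩).1 with h | h
    · have h5 : (r : M) = 1 := congrArg Subtype.val
        (φ.injective ((Prod.ext h h1 : φ ⟨(r : M), hrt⟩ = 1).trans (map_one φ).symm))
      rw [show r = 1 from Subtype.ext h5]
      exact one_mem _
    · have ht0 : (φ ⟨t, htt⟩).1 = Multiplicative.ofAdd 1 := (hz _).resolve_left fun e =>
        invol_ne_one ht
          (congrArg Subtype.val (φ.injective ((Prod.ext e ht1 : φ ⟨t, htt⟩ = 1).trans (map_one φ).symm)))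
      have h5 : (r : M) = t := congrArg Subtype.val
        (φ.injective (Prod.ext (h.trans ht0.symm) (h1.trans ht1.symm) : φ ⟨(r : M), hrt⟩ = φ ⟨t, htt⟩))
      rw [show r = ⟨t, htC⟩ from Subtype.ext h5]
      exact mem_zpowers _
  have hRc : Nat.card ↥(R : Subgroup ↥C) = 2 := by rw [hRe, Nat.card_zpowers, hto]
  obtain ⟨K0, hK0n, hK0odd, hK0mem⟩ := exists_odd_complement R hRc
  haveI := hK0n
  set K := K0.map C.subtype
  have hKodd : Odd (Nat.card ↥K) := by
    rwa [card_map_of_injective (subtype_injective _)]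
  have htK : ∀ y ∈ K, t * y * t⁻¹ ∈ K := conj_mem_map K0 htC
  have hVK : V ≤ K := by
    intro v hv
    refine ⟨⟨v, hVC hv⟩, hK0mem _ ?_, rfl⟩
    obtain ⟨j, hj⟩ := hVp ⟨v, hv⟩
    have h9 : v ^ 3 ^ j = 1 := congrArg Subtype.val hj
    rw [Subgroup.orderOf_mk]
    exact Odd.of_dvd_nat (Odd.pow (by decide)) (orderOf_dvd_of_pow_eq_one h9)
  obtain ⟨W, hWK, hWp, hWt, hWmax, -⟩ :=
    OddCentTrans.Basic.exists_invariant_sylow 3 K hKodd (invol_mul_self ht) htK
  have hWbig : 3 ^ f < Nat.card ↥W := by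
    have := Nat.le_of_dvd Nat.card_pos (hWmax V hVK hVp)
    rw [← hUc]
    refine lt_of_lt_of_le ?_ this
    exact Nat.lt_of_le_of_ne (Subgroup.card_le_of_le hVU.le)
      fun h => hVU.ne (Subgroup.eq_of_le_of_card_ge hVU.le h.ge)
  obtain ⟨y, hyW, hy⟩ : ∃ y ∈ W, t * y * t⁻¹ ≠ y := by
    by_contra hc
    push Not at hc
    have hWc : W ≤ centralizer ({t} : Set M) := fun y hy =>
      mem_centralizer_singleton_iff.2 (mul_inv_eq_iff_eq_mul.1 (hc y hy)).symm
    obtain ⟨j, hj⟩ := IsPGroup.iff_card.1 hWp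
    have h6 : 3 ^ j ∣ 2 * Nat.card (ProjectiveSpecialLinearGroup (Fin 2) F) := by
      have := Subgroup.card_dvd_of_le hWc
      rwa [hj, Nat.card_congr φ.toEquiv, Nat.card_prod, Nat.card_congr Multiplicative.toAdd,
        Nat.card_zmod] at this
    rw [Linear.two_mul_card_PSL_two_of_odd (Nat.odd_iff.2 (by omega)), hF] at h6
    have hq : 1 ≤ 3 ^ f := Nat.one_le_pow _ _ (by norm_num)
    have h30 : 3 ∣ 3 ^ f := dvd_pow_self 3 (by omega)
    have hco : Nat.Coprime (3 ^ j) ((3 ^ f - 1) * (3 ^ f + 1)) := by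
      refine Nat.Coprime.pow_left j ((Nat.prime_three.coprime_iff_not_dvd).2 fun h => ?_)
      rcases Nat.prime_three.dvd_mul.1 h with h | h <;> omega
    rw [mul_assoc] at h6
    have h8 : 3 ^ j ∣ 3 ^ f := hco.dvd_mul_right.1 h6
    have := Nat.le_of_dvd (by positivity) h8
    omega
  set w := y⁻¹ * (t * y * t⁻¹)
  have hw1 : w ≠ 1 := fun h => hy (inv_mul_eq_one.1 h).symm
  have hti := invol_inv ht
  have htt := invol_mul_self ht
  have hwinv : t * w * t⁻¹ = w⁻¹ := by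
    show t * (y⁻¹ * (t * y * t⁻¹)) * t⁻¹ = (y⁻¹ * (t * y * t⁻¹))⁻¹
    rw [hti, show t * (y⁻¹ * (t * y * t)) * t = t * y⁻¹ * t * y * (t * t) by group, htt, mul_one,
      mul_inv_rev, inv_inv, mul_inv_rev, mul_inv_rev, hti, ← mul_assoc]
  obtain ⟨j, hj⟩ := hWp ⟨w, mul_mem (inv_mem hyW) (hWt y hyW)⟩
  obtain ⟨i, -, hi⟩ := (Nat.dvd_prime_pow Nat.prime_three).1
    (orderOf_dvd_of_pow_eq_one (congrArg Subtype.val hj : w ^ 3 ^ j = 1))
  have hi1 : 1 ≤ i := by
    by_contra h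
    rw [show i = 0 by omega, pow_zero, orderOf_eq_one_iff] at hi
    exact hw1 hi
  set z := w ^ 3 ^ (i - 1)
  have hz3 : orderOf z = 3 := by
    rw [orderOf_pow_of_dvd (pow_ne_zero _ (by norm_num)) (hi ▸ Nat.pow_dvd_pow 3 (by omega)), hi,
      Nat.pow_div (by omega) (by norm_num), show i - (i - 1) = 1 by omega, pow_one]
  have hzinv : t * z * t⁻¹ = z⁻¹ := by rw [← conj_pow, hwinv, inv_pow]
  exact ⟨z, hz3, hzinv⟩

/-- A group of Ree type is not normal of odd index with conjugate subgroups of order 3. -/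
theorem ree_false' {G : Type u} [Group G] [Finite G] {M : Subgroup G} [M.Normal]
    (hS : ∀ P : Sylow 2 G, Cfsg.IsElementaryAbelian 2 (P : Subgroup G))
    (hle : ∀ P : Sylow 2 G, (P : Subgroup G) ≤ M) (hodd : Odd M.index)
    (h3c : ∀ a b : G, orderOf a = 3 → orderOf b = 3 →
      ∃ g : G, zpowers b = (zpowers a).map (MulAut.conj g).toMonoidHom) {t : ↥M} (ht : orderOf t = 2) [Fintype F]
    (φ : ↥(centralizer ({t} : Set ↥M)) ≃*
      Multiplicative (ZMod 2) × ProjectiveSpecialLinearGroup (Fin 2) F)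
    {m : ℕ} (hm : 1 ≤ m) (hF : Fintype.card F = 3 ^ (2 * m + 1))
    (hM : Nat.card ↥M =
      (3 ^ (2 * m + 1)) ^ 3 * ((3 ^ (2 * m + 1)) ^ 3 + 1) * (3 ^ (2 * m + 1) - 1)) : False := by
  haveI : Fact (Nat.Prime 2) := ⟨Nat.prime_two⟩
  haveI : Fact (Nat.Prime 3) := ⟨Nat.prime_three⟩
  haveI : CharP F 3 := charP_of_card_eq_prime_pow hF
  have h2 : (2 : F) ≠ 0 := by
    intro h
    have : ((2 : ℕ) : F) = 0 := by exact_mod_cast h
    rw [CharP.cast_eq_zero_iff F 3] at this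
    norm_num at this
  have hns : ∀ a : F, a * a ≠ -1 := fun a ha => by
    refine FiniteField.isSquare_neg_one_iff.1 ⟨a, ha.symm⟩ ?_
    rw [hF, show (3 : ℕ) ^ (2 * m + 1) = 9 ^ m * 3 by rw [pow_succ, pow_mul]; norm_num, Nat.mul_mod,
      Nat.pow_mod]
    norm_num
  obtain ⟨z, hz3, hzinv⟩ := exists_inverted_three (fun P => by
    obtain ⟨T, hT⟩ := (P.2.map M.subtype).exists_le_sylow
    haveI := (hS T).1
    exact ⟨⟨⟨fun p q => Subtype.ext (Subtype.ext (setLike_mul_comm (s := (T : Subgroup G))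
      (hT (mem_map_of_mem _ p.2)) (hT (mem_map_of_mem _ q.2))))⟩⟩,
      fun p hp => Subtype.ext ((hS T).2 _ (hT (mem_map_of_mem _ hp)))⟩) ht φ hm hF hM
  haveI : Nontrivial ↥(rootSub φ) := by
    rw [← Finite.one_lt_card_iff_nontrivial, card_rootSub φ, hF]
    exact Nat.one_lt_pow (by omega) (by norm_num)
  obtain ⟨⟨x, hxU⟩, hxne⟩ := exists_ne (1 : ↥(rootSub φ))
  have hx1 : x ≠ 1 := fun h => hxne (Subtype.ext h)
  have hx3 : orderOf (x : G) = 3 := by
    rw [Subgroup.orderOf_coe]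
    refine orderOf_eq_prime ?_ hx1
    obtain ⟨hxc, u, hu, he⟩ := exists_root φ hxU
    have h10 : φ (⟨x, hxc⟩ ^ 3) = 1 := by
      rw [map_pow, he, Prod.pow_mk, one_pow, ReePSL.pow_char_eq_one 3 hu]
      rfl
    exact congrArg Subtype.val (φ.injective (h10.trans (map_one φ).symm))
  obtain ⟨g, hg⟩ := h3c (x : G) ((z : ↥M) : G) hx3 ((Subgroup.orderOf_coe z).trans hz3)
  have hzm : ((z : ↥M) : G) ∈ zpowers ((z : ↥M) : G) := mem_zpowers _
  rw [hg] at hzm
  obtain ⟨x', hx'm, hxz⟩ := hzm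
  rw [SetLike.mem_coe] at hx'm
  obtain ⟨l, rfl⟩ := mem_zpowers_iff.1 hx'm
  change g * (x : G) ^ l * g⁻¹ = (z : G) at hxz
  -- `x` is itself the image of a power of `z`, so `g⁻¹ t g` inverts it
  set n := g⁻¹ * (t : G) * g
  have hl : n * (x : G) ^ l * n⁻¹ = ((x : G) ^ l)⁻¹ := by
    calc n * (x : G) ^ l * n⁻¹ = g⁻¹ * ((t : G) * (g * (x : G) ^ l * g⁻¹) * (t : G)⁻¹) * g := by
          show g⁻¹ * (t : G) * g * (x : G) ^ l * (g⁻¹ * (t : G) * g)⁻¹ = _
          group
      _ = g⁻¹ * ((z : G))⁻¹ * g := by rw [hxz]; exact congrArg (fun a => g⁻¹ * a * g) (congrArg Subtype.val hzinv)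
      _ = ((x : G) ^ l)⁻¹ := by rw [← hxz]; group
  have hxl : (x : G) ∈ zpowers ((x : G) ^ l) := by
    have he : zpowers ((x : G) ^ l) = zpowers (x : G) := by
      refine Subgroup.eq_of_le_of_card_ge (zpowers_le.2 (zpow_mem (mem_zpowers _) _)) ?_
      rw [Nat.card_zpowers, Nat.card_zpowers, hx3,
        show orderOf ((x : G) ^ l) = orderOf (g * (x : G) ^ l * g⁻¹) from (orderOf_conj_eq _ _).symm,
        hxz, Subgroup.orderOf_coe, hz3]
    rw [he]
    exact mem_zpowers _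
  obtain ⟨l', hl'⟩ := mem_zpowers_iff.1 hxl
  refine not_real hS hle hodd ht φ h2 hns hxU hx1 n ?_
  rw [← hl', ← conj_zpow, hl, inv_zpow]

/-- A group of Ree type is not normal in a group with conjugate abelian subgroups of equal order. -/
theorem ree_false {G : Type u} [Group G] [Finite G] (hG : AbConj G) {M : Subgroup G} [M.Normal]
    [IsSimpleGroup ↥M] (hna : ¬ IsMulCommutative ↥M) {t : ↥M} (ht : orderOf t = 2) [Fintype F]
    (φ : ↥(centralizer ({t} : Set ↥M)) ≃*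
      Multiplicative (ZMod 2) × ProjectiveSpecialLinearGroup (Fin 2) F)
    {m : ℕ} (hm : 1 ≤ m) (hF : Fintype.card F = 3 ^ (2 * m + 1))
    (hM : Nat.card ↥M =
      (3 ^ (2 * m + 1)) ^ 3 * ((3 ^ (2 * m + 1)) ^ 3 + 1) * (3 ^ (2 * m + 1) - 1)) : False :=
  ree_false' (isElementaryAbelian hG hna) (sylow_le hG hna) (odd_index hG hna)
    (fun a b ha hb => hG (zpowers a) (zpowers b) inferInstance inferInstance (by
      rw [Nat.card_zpowers, Nat.card_zpowers, ha, hb])) ht φ hm hF hM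

end Cfsg.Agent.Lib.SameOrderConj77
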