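import Cfsg.Agent.S4025
import Cfsg.Agent.Lib.Linear.Order
import Cfsg.Agent.Lib.SameOrderConj77.Basic

/-!
# The case `PSL(2, 2^n)`

Owner: helper77.
-/

set_option autoImplicit false

namespace Cfsg.Agent.Lib.SameOrderConj77

open Subgroup Matrix

universe u

variable {G : Type u} [Group G] [Finite G]

theorem factorization_two_of_odd {m : ℕ} (h : Odd m) : m.factorization 2 = 0 :=
  Nat.factorization_eq_zero_of_not_dvd fun hd => Nat.not_even_iff_odd.2 h (even_iff_two_dvd.2 hd)

theorem card_sylow_even {F : Type} [Field F] [Fintype F] {n : ℕ} (hn : 1 ≤ n)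
    (hF : Fintype.card F = 2 ^ n) {M : Subgroup G} (hodd : Odd M.index)
    (e : ↥M ≃* ProjectiveSpecialLinearGroup (Fin 2) F) (S : Sylow 2 G) :
    Nat.card ↥(S : Subgroup G) = 2 ^ n := by
  haveI : Fact (Nat.Prime 2) := ⟨Nat.prime_two⟩
  have heven : Even (2 ^ n) := Nat.even_pow.2 ⟨even_two, by omega⟩
  have hq1 : 2 ≤ 2 ^ n := Nat.le_self_pow (by omega) 2
  have ho1 : Odd (2 ^ n - 1) := Nat.Even.sub_odd (by omega) heven odd_one
  have ho2 : Odd (2 ^ n + 1) := heven.add_one
  have hM : Nat.card ↥M = 2 ^ n * (2 ^ n - 1) * (2 ^ n + 1) := by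
    rw [Nat.card_congr e.toEquiv, Linear.card_PSL_two_of_even (hF ▸ heven), hF]
  rw [S.card_eq_multiplicity, ← M.card_mul_index, hM, mul_assoc, mul_assoc,
    Nat.factorization_mul (by positivity)
      (Nat.mul_ne_zero ho1.pos.ne' (Nat.mul_ne_zero ho2.pos.ne' hodd.pos.ne')),
    Finsupp.add_apply, factorization_two_of_odd (ho1.mul (ho2.mul hodd)), add_zero,
    Nat.prime_two.factorization_pow, Finsupp.single_eq_same]

theorem isSolvable_normalizer {S : Sylow 2 G} (hS : IsMulCommutative ↥(S : Subgroup G)) :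
    Group.IsSolvable ↥(normalizer ((S : Subgroup G) : Set G)) := by
  haveI : Fact (Nat.Prime 2) := ⟨Nat.prime_two⟩
  set N := normalizer ((S : Subgroup G) : Set G)
  let S' := (S : Subgroup G).subgroupOf N
  haveI : S'.Normal := normal_in_normalizer
  haveI : Group.IsSolvable ↥S' :=
    Group.isSolvable_of_comm fun a b => Subtype.ext (Subtype.ext
      (setLike_mul_comm (s := (S : Subgroup G)) (mem_subgroupOf.1 a.2) (mem_subgroupOf.1 b.2)))
  have hodd : Odd (Nat.card (↥N ⧸ S')) := by
    rw [← Nat.not_even_iff_odd, even_iff_two_dvd, ← Subgroup.index_eq_card]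
    exact fun h => S.not_dvd_index (h.trans (Dvd.intro _ (relIndex_mul_index le_normalizer)))
  haveI : Group.IsSolvable (↥N ⧸ S') := OddOrder.FeitThompson.isSolvable_of_odd_card hodd
  exact Group.isSolvable_of_ker_le_range S'.subtype (QuotientGroup.mk' S')
    (by rw [QuotientGroup.ker_mk', range_subtype])

theorem even_case (hG : AbConj G) {M : Subgroup G} [M.Normal] [IsSimpleGroup ↥M]
    (hna : ¬ IsMulCommutative ↥M) {F : Type} [Field F] [Fintype F] {n : ℕ} (hn : 3 ≤ n)
    (hF : Fintype.card F = 2 ^ n) (e : ↥M ≃* ProjectiveSpecialLinearGroup (Fin 2) F) :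
    n = 3 ∨ n = 5 := by
  haveI : Fact (Nat.Prime 2) := ⟨Nat.prime_two⟩
  obtain ⟨S⟩ := (inferInstance : Nonempty (Sylow 2 G))
  have hel := isElementaryAbelian hG hna S
  haveI := isSolvable_normalizer hel.1
  rcases S4025.result (sameOrderConj_two hG hna) S n hn hel
      (card_sylow_even (by omega) hF (odd_index hG hna) e S) _ rfl inferInstance with ⟨h, -⟩ | ⟨h, -⟩
  · exact Or.inl h
  · exact Or.inr h

end Cfsg.Agent.Lib.SameOrderConj77
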