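import Cfsg.Prelude.Def_Spor_J1
import Cfsg.Agent.S1644
import Cfsg.Agent.Lib.Linear.SmallIso.PSL5
import Cfsg.Agent.Lib.Walter.Assemble
import Cfsg.Agent.Lib.SameOrderConj77.Even
import Cfsg.Agent.Lib.SameOrderConj77.Ree
import Cfsg.Agent.Lib.EqualPrime77.Field.Main

/-!
# The statement of row S3914 from Walter's theorem and the order theorem

Owner: helper77.
-/

set_option autoImplicit false

namespace Cfsg.Agent.Lib.SameOrderConj77

open Subgroup
open Matrix (ProjectiveSpecialLinearGroup SpecialLinearGroup)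

universe u

/-- `SL₂(F) = PSL₂(F)` in characteristic two. -/
theorem nonempty_psl_iso_sl {F : Type} [Field F] [CharP F 2] :
    Nonempty (ProjectiveSpecialLinearGroup (Fin 2) F ≃* SpecialLinearGroup (Fin 2) F) := by
  have h : Subgroup.center (SpecialLinearGroup (Fin 2) F) = ⊥ := by
    rw [Subgroup.eq_bot_iff_forall]
    intro A hA
    obtain ⟨r, hr, hA'⟩ := Matrix.SpecialLinearGroup.mem_center_iff.1 hA
    rw [Fintype.card_fin] at hr
    have hr1 : r = 1 := CharTwo.sq_injective (by simpa using hr)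
    refine Subtype.ext ?_
    rw [← hA', hr1, map_one]
    rfl
  exact ⟨(QuotientGroup.quotientMulEquivOfEq h).trans QuotientGroup.quotientBot⟩

/-- The statement of row S3914. -/
theorem main3914 (hK : Walter.PropKnown.{u})
    (hO : Walter.PropOrder.{u}) {G : Type u} [Group G] [Finite G] (hG : AbConj G) (M : Subgroup G)
    [M.Normal] (hs : IsSimpleGroup ↥M) (hna : ¬ IsMulCommutative ↥M) :
    (∃ (F : Type) (_ : Field F) (_ : Fintype F), (Fintype.card F = 2 ^ 2 ∨ Fintype.card F = 2 ^ 3 ∨ Fintype.card F = 2 ^ 5) ∧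
        Nonempty (↥M ≃* SpecialLinearGroup (Fin 2) F)) ∨
    (∃ (F : Type) (_ : Field F) (_ : Fintype F), 5 ≤ Fintype.card F ∧ (Fintype.card F % 8 = 3 ∨ Fintype.card F % 8 = 5) ∧
        Nonempty (↥M ≃* ProjectiveSpecialLinearGroup (Fin 2) F)) ∨
    Cfsg.Spor.IsoJ1 ↥M := by
  haveI := hs
  haveI : Fact (Nat.Prime 2) := ⟨Nat.prime_two⟩
  have hab : Walter.AbelianSylow ↥M := fun P => by
    obtain ⟨T, hT⟩ := (P.2.map M.subtype).exists_le_sylow
    haveI := (isElementaryAbelian hG hna T).1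
    exact ⟨⟨fun p q => Subtype.ext (Subtype.ext (setLike_mul_comm (s := (T : Subgroup G))
      (hT (mem_map_of_mem _ p.2)) (hT (mem_map_of_mem _ q.2))))⟩⟩
  rcases hK ↥M hs hna hab with ⟨n, F, hF, hF', hn, hc, ⟨e⟩⟩ | ⟨F, hF, hF', hq, h5, he⟩ | hJ
  · haveI : CharP F 2 := charP_of_card_eq_prime_pow hc
    obtain ⟨e'⟩ := nonempty_psl_iso_sl (F := F)
    refine Or.inl ⟨F, hF, hF', ?_, ⟨e.trans e'⟩⟩
    rcases even_case hG hna hn hc e with rfl | rfl <;> simp [hc]
  · exact Or.inr (Or.inl ⟨F, hF, hF', h5, hq, he⟩)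
  right; right
  obtain ⟨S⟩ := (inferInstance : Nonempty (Sylow 2 ↥M))
  obtain ⟨t, ht⟩ := exists_prime_orderOf_dvd_card' (G := ↥M) 2 (even_card_of_simple hna)
  obtain ⟨E, E₀, hE⟩ := hJ.centralizer t ht
  have hEE := EqualPrime77.Field.eq_of_fused hK hO hJ
    (EqualPrime77.Field.fused_of_conj fun l hl a b ha hb => hG (zpowers a) (zpowers b) inferInstance
      inferInstance (by rw [Nat.card_zpowers, Nat.card_zpowers, ha, hb])) ht hE
  obtain ⟨F, hF, hF', hq, h5, ⟨e⟩⟩ := hE.2.2.2.2.1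
  subst hEE
  obtain ⟨d⟩ := Walter.prod_equiv ht hE.1
  let φ := d.trans ((MulEquiv.refl _).prodCongr e)
  rcases hO ↥M (fun P a b => by haveI := hab P; exact mul_comm' a b) F (by omega) t ht ⟨φ⟩ with
    ⟨m, hm, hc, hcard⟩ | ⟨hq', -⟩
  · exact (ree_false hG hna ht φ hm hc hcard).elim
  · have hc5 : Fintype.card F = 5 := by omega
    obtain ⟨e5⟩ := Linear.SmallIso.nonempty_psl_two_five hc5
    exact S1644.result S (hab S) (hJ.card_sylow S) t ht (φ.trans ((MulEquiv.refl _).prodCongr e5))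

end Cfsg.Agent.Lib.SameOrderConj77
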